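import Mathlib
import Groth.Prelude.Def_Frob
import Groth.Agent.S4666

/-!
# Correspondences twisted by a power of Frobenius
-/

set_option autoImplicit false
set_option backward.isDefEq.respectTransparency false
set_option backward.isDefEq.respectTransparency.types false
set_option linter.style.haveILetI false

universe u

open CategoryTheory CategoryTheory.Limits AlgebraicGeometry TopologicalSpace

namespace Groth.Agent.LVCorrLib

variable {X Y : Scheme.{u}} (p : ℕ) [Fact p.Prime]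

/-- The iterated absolute Frobenius. -/
noncomputable def fpow (X : Scheme.{u}) [FrobSch.IsCharP X p] (m : ℕ) : X ⟶ X :=
  End.asHom (End.of (FrobSch.frob X p) ^ m)

theorem fpow_zero (X : Scheme.{u}) [FrobSch.IsCharP X p] : fpow p X 0 = 𝟙 X := by
  simp only [fpow, pow_zero]
  rfl

theorem fpow_succ (X : Scheme.{u}) [FrobSch.IsCharP X p] (m : ℕ) :
    fpow p X (m + 1) = FrobSch.frob X p ≫ fpow p X m := by
  simp only [fpow, pow_succ]
  rfl

theorem fpow_comp [FrobSch.IsCharP X p] [FrobSch.IsCharP Y p] (f : X ⟶ Y) (m : ℕ) :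
    fpow p X m ≫ f = f ≫ fpow p Y m := by
  induction m with
  | zero => simp [fpow_zero]
  | succ m ih =>
    rw [fpow_succ, fpow_succ, Category.assoc, ih, ← Category.assoc, FrobSch.frob_comp p f, Category.assoc]

theorem fpow_apply [FrobSch.IsCharP X p] (m : ℕ) (x : X) : (fpow p X m).base x = x := by
  induction m with
  | zero => rw [fpow_zero]; rfl
  | succ m ih => rw [fpow_succ]; exact ih

theorem appLE_frob_comp [FrobSch.IsCharP X p] (g : X ⟶ Y) {U : Y.Opens} {V : X.Opens}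
    (e : V ≤ (FrobSch.frob X p ≫ g) ⁻¹ᵁ U) (s : Γ(Y, U)) :
    ((FrobSch.frob X p ≫ g).appLE U V e).hom s = (g.appLE U V e).hom s ^ p := by
  simp only [Scheme.Hom.appLE, Scheme.Hom.comp_app, CommRingCat.hom_comp, RingHom.comp_apply]
  rw [← map_pow]
  rfl

theorem appLE_fpow_comp [FrobSch.IsCharP X p] (g : X ⟶ Y) {U : Y.Opens} {V : X.Opens} (m : ℕ) :
    ∀ (e : V ≤ (fpow p X m ≫ g) ⁻¹ᵁ U) (s : Γ(Y, U)),
      ∃ b : Γ(X, V), ((fpow p X m ≫ g).appLE U V e).hom s = b ^ p ^ m := by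
  induction m with
  | zero => exact fun e s => ⟨_, (pow_one _).symm⟩
  | succ m ih =>
    intro e s
    have e' : V ≤ (fpow p X m ≫ g) ⁻¹ᵁ U := by
      intro x hx
      have := e hx
      rw [fpow_succ, Category.assoc] at this
      exact this
    obtain ⟨b, hb⟩ := ih e' s
    refine ⟨b, ?_⟩
    have h2 : fpow p X (m + 1) ≫ g = FrobSch.frob X p ≫ fpow p X m ≫ g := by
      rw [fpow_succ, Category.assoc]
    simp only [h2, appLE_frob_comp]
    rw [hb, ← pow_mul, ← pow_succ]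

/-- Sections pulled back along a power of Frobenius which vanish on a closed subset vanish to high
order there. -/
theorem comap_fpow_le [FrobSch.IsCharP X p] (g : X ⟶ Y) (m : ℕ) (I : Y.IdealSheafData)
    (J : X.IdealSheafData) (h : I.comap (fpow p X m ≫ g) ≤ J.radical) :
    I.comap (fpow p X m ≫ g) ≤ J.radical ^ p ^ m := by
  let f := fpow p X m ≫ g
  have hex : ∀ x : X, ∃ (V : X.affineOpens) (U : Y.affineOpens), x ∈ V.1 ∧ V.1 ≤ f ⁻¹ᵁ U.1 := fun x => by
    obtain ⟨U, hU, hxU, -⟩ := exists_isAffineOpen_mem_and_subset (x := f x) (U := ⊤) trivial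
    obtain ⟨V, hV, hxV, hVU⟩ := exists_isAffineOpen_mem_and_subset (x := x) (U := f ⁻¹ᵁ U) hxU
    exact ⟨⟨V, hV⟩, ⟨U, hU⟩, hxV, hVU⟩
  choose V U hxV hVU using hex
  refine Scheme.IdealSheafData.le_of_iSup_eq_top V
    (top_le_iff.mp fun x _ => Opens.mem_iSup.mpr ⟨x, hxV x⟩) fun x => ?_
  have h' := h (V x)
  rw [Scheme.IdealSheafData.ideal_pow, Pi.pow_apply]
  rw [Groth.Agent.S4666.ideal_comap_eq I (fpow p X m ≫ g) (U x) (V x) (hVU x)] at h' ⊢
  rw [Ideal.map_le_iff_le_comap]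
  intro s hs
  obtain ⟨b, hb⟩ := appLE_fpow_comp p g m (hVU x) s
  have h1 := h' (Ideal.mem_map_of_mem _ hs)
  rw [hb] at h1
  have h2 : b ∈ (J.radical.ideal (V x)) := by
    simp only [Scheme.IdealSheafData.radical_ideal] at h1 ⊢
    exact Ideal.radical_isRadical _ ⟨_, h1⟩
  rw [Ideal.mem_comap, hb]
  exact Ideal.pow_mem_pow h2 _

theorem le_radical_of_support_subset {I J : X.IdealSheafData}
    (h : (J.support : Set X) ⊆ (I.support : Set X)) : I ≤ J.radical := by
  refine le_trans I.le_radical ?_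
  rw [← Scheme.IdealSheafData.vanishingIdeal_support, ← Scheme.IdealSheafData.vanishingIdeal_support]
  exact Scheme.IdealSheafData.vanishingIdeal_antimono h

/-- The contraction inequalities. -/
theorem contracting [FrobSch.IsCharP X p] (g c : X ⟶ Y) (m : ℕ) (I : Y.IdealSheafData) (d : ℕ)
    (hd : (I.comap c).radical ^ d ≤ I.comap c) (hn : d < p ^ m)
    (hinv : c.base ⁻¹' (I.support : Set Y) ⊆ (fpow p X m ≫ g).base ⁻¹' (I.support : Set Y)) :
    I.comap (fpow p X m ≫ g) ≤ I.comap c ∧ I.comap (fpow p X m ≫ g) ^ d ≤ I.comap c ^ (d + 1) := by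
  have h := comap_fpow_le p g m I (I.comap c) (le_radical_of_support_subset (by
    rw [Scheme.IdealSheafData.support_comap, Scheme.IdealSheafData.support_comap]
    exact hinv))
  refine ⟨fun V => ?_, fun V => ?_⟩
  · exact (h V).trans ((Ideal.pow_le_pow_right hn.le).trans (hd V))
  · simp only [Scheme.IdealSheafData.ideal_pow, Pi.pow_apply]
    have h' := h V
    have hd' := hd V
    simp only [Scheme.IdealSheafData.ideal_pow, Pi.pow_apply] at h' hd'
    refine (Ideal.pow_right_mono h' d).trans ?_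
    rw [← pow_mul, mul_comm, pow_mul]
    exact (Ideal.pow_right_mono hd' _).trans (Ideal.pow_le_pow_right hn)

theorem comap_radical_pow_le {W : Scheme.{u}} (j : W ⟶ X) [IsOpenImmersion j] (J : X.IdealSheafData) (d : ℕ)
    (hd : J.radical ^ d ≤ J) : (J.comap j).radical ^ d ≤ J.comap j := fun V => by
  have h' := hd ⟨j ''ᵁ V.1, V.2.image_of_isOpenImmersion j⟩
  simp only [Scheme.IdealSheafData.ideal_pow, Pi.pow_apply, Scheme.IdealSheafData.radical_ideal,
    Scheme.IdealSheafData.ideal_comap_of_isOpenImmersion] at h' ⊢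
  rw [← Ideal.comap_radical]
  exact (Ideal.le_comap_pow _ d).trans (Ideal.comap_mono h')

theorem frob_Spec_comp_map {K : Type u} [Field K] [CharP K p] (m : ℕ) (ψ : K →+* K)
    (hψ : ∀ x, ψ x ^ p ^ m = x) :
    fpow p (Spec (CommRingCat.of K)) m ≫ Spec.map (CommRingCat.ofHom ψ) = 𝟙 _ := by
  refine ext_of_isAffine ?_
  refine CommRingCat.hom_ext (RingHom.ext fun s => ?_)
  have key : ∀ (k : ℕ) (t : Γ(Spec (CommRingCat.of K), ⊤)),
      (fpow p (Spec (CommRingCat.of K)) k).appTop.hom t = t ^ p ^ k := fun k => by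
    induction k with
    | zero => intro t; rw [fpow_zero, pow_zero, pow_one]; rfl
    | succ k ih =>
      intro t
      rw [fpow_succ, Scheme.Hom.comp_appTop, CommRingCat.hom_comp, RingHom.comp_apply]
      refine (FrobSch.frob_appTop _ p _).trans ?_
      rw [ih, ← pow_mul, ← pow_succ]
  rw [Scheme.Hom.comp_appTop, CommRingCat.hom_comp, RingHom.comp_apply, key]
  apply (Scheme.ΓSpecIso (CommRingCat.of K)).commRingCatIsoToRingEquiv.injective
  rw [map_pow]
  have h := congr($(Scheme.ΓSpecIso_naturality (CommRingCat.ofHom ψ)).hom s)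
  simp only [CommRingCat.hom_comp, RingHom.comp_apply] at h
  refine Eq.trans ?_ (hψ _)
  exact congrArg (· ^ p ^ m) h

/-- A twist of geometric Frobenius factors through absolute Frobenius. -/
theorem exists_fac {C C₀ : Scheme.{u}} {k₀ : Type u} [Field k₀] [Fintype k₀] [CharP k₀ p] (e : ℕ)
    (hq : Fintype.card k₀ = p ^ e) {K : Type u} [Field K] [Algebra k₀ K] [IsAlgClosed K]
    {f₀ : C₀ ⟶ Spec (CommRingCat.of k₀)} [FrobSch.IsCharP C₀ p] [FrobSch.IsCharP C p]
    {πC₀ : C ⟶ C₀} {πK : C ⟶ Spec (CommRingCat.of K)}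
    (hC : IsPullback πC₀ πK f₀ (Spec.map (CommRingCat.ofHom (algebraMap k₀ K))))
    (n : ℕ) (Fr : C ⟶ C) (hFr₀ : Fr ≫ πC₀ = πC₀ ≫ fpow p C₀ (e * n)) (hFrK : Fr ≫ πK = πK) :
    ∃ τ : C ⟶ C, Fr = fpow p C (e * n) ≫ τ := by
  haveI : CharP K p := charP_of_injective_algebraMap (algebraMap k₀ K).injective p
  haveI : ExpChar K p := ExpChar.prime Fact.out
  let φ := iterateFrobeniusEquiv K p (e * n)
  let ψ : K →+* K := φ.symm.toRingHom
  have hψ : ∀ x, ψ x ^ p ^ (e * n) = x := fun x => φ.apply_symm_apply x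
  have hψk : ∀ a, ψ (algebraMap k₀ K a) = algebraMap k₀ K a := fun a => φ.injective <| by
    show φ (φ.symm _) = _
    rw [φ.apply_symm_apply, iterateFrobeniusEquiv_def, ← map_pow, pow_mul, ← hq,
      FiniteField.pow_card_pow]
  have hc : πC₀ ≫ f₀ =
      (πK ≫ Spec.map (CommRingCat.ofHom ψ)) ≫ Spec.map (CommRingCat.ofHom (algebraMap k₀ K)) := by
    rw [Category.assoc, ← Spec.map_comp, hC.w]
    congr 2
    ext a
    exact (hψk a).symm
  refine ⟨hC.lift πC₀ (πK ≫ Spec.map (CommRingCat.ofHom ψ)) hc, hC.hom_ext ?_ ?_⟩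
  · rw [hFr₀, Category.assoc, hC.lift_fst, fpow_comp]
  · rw [hFrK, Category.assoc, hC.lift_snd, ← Category.assoc, fpow_comp p πK, Category.assoc,
      frob_Spec_comp_map p _ ψ hψ, Category.comp_id]

/-- The twisted correspondence is contracting near a closed point, away from a closed set not meeting
the fixed points. -/
theorem exists_contracting_point {C : Scheme.{u}} [FrobSch.IsCharP C p] {S : Scheme.{u}} {pX : X ⟶ S}
    (Fr τ : C ⟶ C) (m : ℕ) (hFr : Fr = fpow p C m ≫ τ) (c₁ c₂ : C ⟶ X) [LocallyQuasiFinite c₂]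
    (hcomm : (Fr ≫ c₁) ≫ pX = c₂ ≫ pX) (d : ℕ) (hn : d < p ^ m) (x : X) (hx : IsClosed ({x} : Set X))
    (hd : ((Scheme.IdealSheafData.vanishingIdeal ⟨{x}, hx⟩).comap c₂).radical ^ d ≤
        (Scheme.IdealSheafData.vanishingIdeal ⟨{x}, hx⟩).comap c₂) :
    ∃ W : C.Opens,
      (pullback.lift (Fr ≫ c₁) c₂ hcomm).base ⁻¹' Set.range (pullback.diagonal pX).base ⊆ (W : Set C) ∧
      (Scheme.IdealSheafData.vanishingIdeal ⟨{x}, hx⟩).comap (W.ι ≫ Fr ≫ c₁) ≤
        (Scheme.IdealSheafData.vanishingIdeal ⟨{x}, hx⟩).comap (W.ι ≫ c₂) ∧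
      (Scheme.IdealSheafData.vanishingIdeal ⟨{x}, hx⟩).comap (W.ι ≫ Fr ≫ c₁) ^ d ≤
        (Scheme.IdealSheafData.vanishingIdeal ⟨{x}, hx⟩).comap (W.ι ≫ c₂) ^ (d + 1) := by
  let B : Set C := {c | c₂.base c = x ∧ (Fr ≫ c₁).base c ≠ x}
  have hF : IsClosed (c₂.base ⁻¹' {x}) := hx.preimage c₂.continuous
  have hB : IsClosed B := by
    haveI := (c₂.isDiscrete_preimage_singleton x).to_subtype
    have h1 := hF.isClosedEmbedding_subtypeVal.isClosedMap _
      (isClosed_discrete {c : ↥(c₂.base ⁻¹' {x}) | (Fr ≫ c₁).base c.1 ≠ x})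
    convert h1 using 1
    ext c
    constructor
    · exact fun hc => ⟨⟨c, hc.1⟩, hc.2, rfl⟩
    · rintro ⟨⟨c, hc⟩, hc', rfl⟩
      exact ⟨hc, hc'⟩
  let W : C.Opens := ⟨Bᶜ, hB.isOpen_compl⟩
  haveI : FrobSch.IsCharP (W : Scheme.{u}) p := FrobSch.IsCharP.of_hom W.ι p
  refine ⟨W, ?_, ?_⟩
  · rintro c ⟨y, hy⟩ hc
    have h1 := congrArg (pullback.fst pX pX).base hy
    have h2 := congrArg (pullback.snd pX pX).base hy
    simp only [← Scheme.Hom.comp_apply, pullback.diagonal_fst, pullback.diagonal_snd,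
      pullback.lift_fst, pullback.lift_snd] at h1 h2
    exact hc.2 (h1.symm.trans (h2.trans hc.1))
  · have e : W.ι ≫ Fr ≫ c₁ = fpow p (W : Scheme.{u}) m ≫ W.ι ≫ τ ≫ c₁ := by
      rw [hFr, Category.assoc, ← Category.assoc (fpow p (W : Scheme.{u}) m), fpow_comp p W.ι, Category.assoc]
    rw [e]
    refine contracting p _ _ m _ d ?_ hn ?_
    · rw [Scheme.IdealSheafData.comap_comp]
      exact comap_radical_pow_le W.ι _ d hd
    · rw [← e, Scheme.IdealSheafData.coe_support_vanishingIdeal]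
      intro w hw
      by_contra hne
      exact w.2 ⟨hw, hne⟩

/-- Pulling back an inequality of powers. -/
theorem pow_le_pow_of_comap {W : Scheme.{u}} (j : W ⟶ X) {L J : X.IdealSheafData} {a b : ℕ}
    (h : L ^ a ≤ J ^ b) {K : W.IdealSheafData} (hL : K = L.comap j) (hJ : K = J.comap j) :
    K ^ a ≤ K ^ b := by
  have hex : ∀ x : W, ∃ (V : W.affineOpens) (U : X.affineOpens), x ∈ V.1 ∧ V.1 ≤ j ⁻¹ᵁ U.1 := fun x => by
    obtain ⟨U, hU, hxU, -⟩ := exists_isAffineOpen_mem_and_subset (x := j x) (U := ⊤) trivial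
    obtain ⟨V, hV, hxV, hVU⟩ := exists_isAffineOpen_mem_and_subset (x := x) (U := j ⁻¹ᵁ U) hxU
    exact ⟨⟨V, hV⟩, ⟨U, hU⟩, hxV, hVU⟩
  choose V U hxV hVU using hex
  refine Scheme.IdealSheafData.le_of_iSup_eq_top V
    (top_le_iff.mp fun x _ => Opens.mem_iSup.mpr ⟨x, hxV x⟩) fun x => ?_
  have h' := h (U x)
  simp only [Scheme.IdealSheafData.ideal_pow, Pi.pow_apply] at h' ⊢
  have h'' := Ideal.map_mono (f := (j.appLE (U x).1 (V x).1 (hVU x)).hom) h'
  rw [Ideal.map_pow, Ideal.map_pow, ← Groth.Agent.S4666.ideal_comap_eq L j (U x) (V x) (hVU x),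
    ← Groth.Agent.S4666.ideal_comap_eq J j (U x) (V x) (hVU x), ← hL, ← hJ] at h''
  exact h''

theorem finite_discrete_of_closedPoints_open {α : Type*} [TopologicalSpace α] [JacobsonSpace α]
    [NoetherianSpace α] (h : ∀ z : α, IsClosed ({z} : Set α) → IsOpen ({z} : Set α)) :
    Finite α ∧ DiscreteTopology α := by
  have hop : IsOpen (closedPoints α) := by
    have : closedPoints α = ⋃ z ∈ closedPoints α, {z} := (Set.biUnion_of_singleton _).symm
    rw [this]
    exact isOpen_biUnion fun z hz => h z hz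
  have hall : ∀ z : α, IsClosed ({z} : Set α) := fun z => by
    by_contra hz
    obtain ⟨w, hw, hwc⟩ := nonempty_inter_closedPoints (Z := (closedPoints α)ᶜ) ⟨z, hz⟩
      hop.isClosed_compl.isLocallyClosed
    exact hw hwc
  haveI : DiscreteTopology α := discreteTopology_iff_isOpen_singleton.mpr fun z => h z (hall z)
  exact ⟨finite_of_compact_of_discrete, inferInstance⟩

end Groth.Agent.LVCorrLib
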